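import Groth.Agent.Lib.Kleiman27.Dim
import Groth.Agent.Lib.Orbit27.Prod
import Groth.Agent.Lib.AlgSp.FibreFactor
import Groth.Agent.S7984
import Groth.Agent.S0414
import Groth.Agent.S14404
import Groth.Agent.S10941

/-!
# Orbits and general translates inside an orbit
-/

universe u

open CategoryTheory CategoryTheory.Limits MonoidalCategory CartesianMonoidalCategory MonObj GrpObj
open AlgebraicGeometry TopologicalSpace Topology
open GrothLib.Orbit27 (ratPt ratPt_apply ratPt_ext subset_of_closedPoints)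

namespace GrothLib.Kleiman27

variable {k : Type u} [Field k] {G X : Over (Spec (CommRingCat.of k))} [GrpObj G]

/-- Translation of the space. -/
noncomputable def tr (a : AlgGrp.Action G X) (g : 𝟙_ (Over (Spec (CommRingCat.of k))) ⟶ G) : X ⟶ X :=
  lift (toUnit X ≫ g) (𝟙 X) ≫ a.act

/-- Left translation of the group. -/
noncomputable def ltr (g : 𝟙_ (Over (Spec (CommRingCat.of k))) ⟶ G) : G ⟶ G :=
  (toUnit G ≫ g) * 𝟙 G

variable (a : AlgGrp.Action G X)

theorem tr_tr (g h : 𝟙_ (Over (Spec (CommRingCat.of k))) ⟶ G) : tr a g ≫ tr a h = tr a (h * g) := by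
  simp only [tr]
  rw [comp_lift_assoc, Category.comp_id, ← Category.assoc _ (toUnit X) h, comp_toUnit, MonObj.comp_mul,
    GrothLib.DiagGrp.act_mul]

theorem tr_one : tr a 1 = 𝟙 X := by
  simp only [tr]
  rw [MonObj.comp_one, GrothLib.DiagGrp.act_one]

theorem ltr_ltr (g h : 𝟙_ (Over (Spec (CommRingCat.of k))) ⟶ G) : ltr g ≫ ltr h = ltr (h * g) := by
  simp only [ltr]
  rw [MonObj.comp_mul, ← Category.assoc _ (toUnit G) h, comp_toUnit, Category.comp_id, MonObj.comp_mul,
    _root_.mul_assoc]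

theorem ltr_one : ltr (1 : 𝟙_ (Over (Spec (CommRingCat.of k))) ⟶ G) = 𝟙 G := by
  simp only [ltr]
  rw [MonObj.comp_one, _root_.one_mul]

theorem isIso_tr (g : 𝟙_ (Over (Spec (CommRingCat.of k))) ⟶ G) : IsIso (tr a g).left :=
  ⟨(tr a g⁻¹).left, by rw [← Over.comp_left, tr_tr, inv_mul_cancel, tr_one]; rfl,
    by rw [← Over.comp_left, tr_tr, mul_inv_cancel, tr_one]; rfl⟩

theorem isIso_ltr (g : 𝟙_ (Over (Spec (CommRingCat.of k))) ⟶ G) : IsIso (ltr g).left :=
  ⟨(ltr g⁻¹).left, by rw [← Over.comp_left, ltr_ltr, inv_mul_cancel, ltr_one]; rfl,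
    by rw [← Over.comp_left, ltr_ltr, mul_inv_cancel, ltr_one]; rfl⟩

theorem ltr_orbitMap (g : 𝟙_ (Over (Spec (CommRingCat.of k))) ⟶ G)
    (ξ : 𝟙_ (Over (Spec (CommRingCat.of k))) ⟶ X) : ltr g ≫ a.orbitMap ξ = a.orbitMap ξ ≫ tr a g := by
  simp only [ltr, tr]
  rw [GrothLib.FlatFactor.comp_orbitMap, comp_lift_assoc, Category.comp_id,
    ← Category.assoc (a.orbitMap ξ) (toUnit X) g, comp_toUnit, GrothLib.DiagGrp.act_mul]
  conv_rhs => rw [← Category.id_comp (a.orbitMap ξ), GrothLib.FlatFactor.comp_orbitMap]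

/-- Orbits are stable. -/
theorem tr_preimage_range (g : 𝟙_ (Over (Spec (CommRingCat.of k))) ⟶ G)
    (ξ : 𝟙_ (Over (Spec (CommRingCat.of k))) ⟶ X) :
    (tr a g).left.base ⁻¹' Set.range (a.orbitMap ξ).left.base = Set.range (a.orbitMap ξ).left.base := by
  have key : ∀ (h : 𝟙_ (Over (Spec (CommRingCat.of k))) ⟶ G) (x : X.left),
      x ∈ Set.range (a.orbitMap ξ).left.base → (tr a h).left.base x ∈ Set.range (a.orbitMap ξ).left.base := by
    rintro h _ ⟨w, rfl⟩
    refine ⟨(ltr h).left.base w, ?_⟩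
    rw [← Scheme.Hom.comp_apply, ← Scheme.Hom.comp_apply, ← Over.comp_left, ← Over.comp_left, ltr_orbitMap]
  refine Set.Subset.antisymm (fun x hx => ?_) (fun x hx => key g x hx)
  have := key g⁻¹ _ hx
  rwa [← Scheme.Hom.comp_apply, ← Over.comp_left, tr_tr, inv_mul_cancel, tr_one] at this

variable [IsAlgClosed k] [IsIntegral G.left] [LocallyOfFiniteType G.hom] [QuasiCompact G.hom]
  [LocallyOfFiniteType X.hom] [QuasiCompact X.hom]

/-- The orbit with its reduced structure receives the group flatly. -/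
theorem exists_orbit (ξ : 𝟙_ (Over (Spec (CommRingCat.of k))) ⟶ X) :
    ∃ (O : Scheme.{u}) (z : O ⟶ X.left) (π : G.left ⟶ O), IsImmersion z ∧ IsReduced O ∧
      Set.range z.base = Set.range (a.orbitMap ξ).left.base ∧ π ≫ z = (a.orbitMap ξ).left ∧ Flat π ∧
      Surjective π ∧ IrreducibleSpace O := by
  obtain ⟨U, Z, hU, hZ, hS⟩ := Groth.Agent.S7984.result k G X a ξ
  let Uo : X.left.Opens := ⟨U, hU⟩
  let I := Scheme.IdealSheafData.vanishingIdeal
    (⟨Uo.ι.base ⁻¹' Z, hZ.preimage Uo.ι.continuous⟩ : Closeds Uo.toScheme)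
  haveI : IsReduced I.subscheme := GrothLib.RedSub.isReduced_subscheme_vanishingIdeal _
  let z := I.subschemeι ≫ Uo.ι
  haveI : IsImmersion z := inferInstance
  have hz : Set.range z.base = Set.range (a.orbitMap ξ).left.base := by
    have e : z.base = ⇑Uo.ι.base ∘ ⇑I.subschemeι.base := funext fun w => Scheme.Hom.comp_apply I.subschemeι Uo.ι w
    rw [e, Set.range_comp, GrothLib.RedSub.range_subschemeι_vanishingIdeal, hS]
    simp only [Closeds.coe_mk]
    rw [Set.image_preimage_eq_inter_range, Scheme.Opens.range_ι, Set.inter_comm]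
    rfl
  haveI : IsReduced G.left := inferInstance
  obtain ⟨π, hπ⟩ := GrothLib.AlgSp.exists_lift_of_range_subset (a.orbitMap ξ).left z hz.ge
  haveI : Surjective π := ⟨fun w => by
    obtain ⟨g, hg⟩ := hz.le ⟨w, rfl⟩
    refine ⟨g, z.isEmbedding.injective ?_⟩
    rw [← Scheme.Hom.comp_apply, hπ]
    exact hg⟩
  haveI : Nonempty G.left := inferInstance
  haveI : IrreducibleSpace I.subscheme := by
    rw [irreducibleSpace_def, Set.top_eq_univ, ← π.surjective.range_eq, ← Set.image_univ]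
    exact (IrreducibleSpace.isIrreducible_univ G.left).image _ π.continuous.continuousOn
  refine ⟨I.subscheme, z, π, inferInstance, inferInstance, hz, hπ, ?_, inferInstance, inferInstance⟩
  -- translations of the orbit
  have hm : ∀ g, ∃ m : I.subscheme ⟶ I.subscheme, m ≫ z = z ≫ (tr a g).left := fun g => by
    refine GrothLib.AlgSp.exists_lift_of_range_subset _ z ?_
    rintro _ ⟨w, rfl⟩
    rw [hz, Scheme.Hom.comp_apply]
    exact (tr_preimage_range a g ξ).ge (hz.le ⟨w, rfl⟩)
  choose m hm using hm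
  have hmm : ∀ g, IsIso (m g) := fun g =>
    ⟨m g⁻¹, by rw [← cancel_mono z, Category.assoc, hm, reassoc_of% (hm g), ← Over.comp_left, tr_tr,
        inv_mul_cancel, tr_one, Over.id_left, Category.comp_id, Category.id_comp],
      by rw [← cancel_mono z, Category.assoc, hm, reassoc_of% (hm g⁻¹), ← Over.comp_left, tr_tr,
        mul_inv_cancel, tr_one, Over.id_left, Category.comp_id, Category.id_comp]⟩
  have hcomm : ∀ g, (ltr g).left ≫ π = π ≫ m g := fun g => by
    rw [← cancel_mono z, Category.assoc, Category.assoc, hm, hπ, reassoc_of% hπ, ← Over.comp_left,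
      ← Over.comp_left, ltr_orbitMap]
  haveI : LocallyOfFiniteType (π ≫ z ≫ X.hom) := by rw [reassoc_of% hπ, Over.w]; infer_instance
  haveI : LocallyOfFiniteType π := locallyOfFiniteType_of_comp π (z ≫ X.hom)
  haveI : IsLocallyNoetherian X.left := LocallyOfFiniteType.isLocallyNoetherian X.hom
  haveI : IsLocallyNoetherian I.subscheme := LocallyOfFiniteType.isLocallyNoetherian z
  haveI : QuasiCompact (π ≫ z ≫ X.hom) := by rw [reassoc_of% hπ, Over.w]; infer_instance
  haveI : IsSeparated z := inferInstance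
  haveI : QuasiCompact π := by
    haveI : CompactSpace G.left := QuasiCompact.compactSpace_of_compactSpace G.hom
    infer_instance
  obtain ⟨U', hU'd, hflat, -⟩ := Groth.Agent.S0414.result π
  obtain ⟨w₀, hw₀⟩ := hU'd.nonempty
  obtain ⟨g₀, hg₀⟩ := π.surjective w₀
  haveI : JacobsonSpace G.left := LocallyOfFiniteType.jacobsonSpace G.hom
  obtain ⟨b, hb, hbc⟩ := nonempty_inter_closedPoints (Z := (π ⁻¹ᵁ U' : Set G.left))
    ⟨g₀, show π g₀ ∈ U' from hg₀ ▸ hw₀⟩ (π ⁻¹ᵁ U').2.isLocallyClosed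
  let W : {g : G.left // g ∈ closedPoints G.left} → G.left.Opens := fun g =>
    (ltr (ratPt b hbc * (ratPt g.1 g.2)⁻¹)).left ⁻¹ᵁ (π ⁻¹ᵁ U')
  have hW : iSup W = ⊤ := by
    refine top_le_iff.1 fun x _ => ?_
    obtain ⟨g, hg, hgc⟩ := nonempty_inter_closedPoints (Z := closure ({x} : Set G.left))
      ⟨x, subset_closure rfl⟩ isClosed_closure.isLocallyClosed
    refine Opens.mem_iSup.2 ⟨⟨g, hgc⟩, (specializes_iff_mem_closure.2 hg).mem_open (Opens.isOpen _) ?_⟩
    show (ltr (ratPt b hbc * (ratPt g hgc)⁻¹)).left g ∈ π ⁻¹ᵁ U'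
    have e : ratPt g hgc ≫ ltr (ratPt b hbc * (ratPt g hgc)⁻¹) = ratPt b hbc := by
      rw [ltr, MonObj.comp_mul, Category.comp_id, ← Category.assoc, toUnit_unique (_ ≫ toUnit G) (𝟙 _),
        Category.id_comp, inv_mul_cancel_right]
    have e' := congrArg (fun v : 𝟙_ (Over (Spec (CommRingCat.of k))) ⟶ G =>
      v.left.base (IsLocalRing.closedPoint k)) e
    simp only [GrothLib.Orbit27.comp_apply, ratPt_apply] at e'
    rw [e']
    exact hb
  refine IsZariskiLocalAtSource.of_iSup_eq_top W hW fun g => ?_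
  let h := ratPt b hbc * (ratPt g.1 g.2)⁻¹
  haveI := hmm h
  haveI := isIso_ltr (G := G) h
  have e : (W g).ι ≫ π = (((ltr h).left ∣_ (π ⁻¹ᵁ U')) ≫ (π ∣_ U') ≫ U'.ι) ≫ inv (m h) := by
    rw [morphismRestrict_ι, ← Category.assoc ((ltr h).left ∣_ (π ⁻¹ᵁ U')), morphismRestrict_ι,
      Category.assoc, Category.assoc, ← Category.assoc (ltr h).left, hcomm, Category.assoc,
      IsIso.hom_inv_id, Category.comp_id]
  rw [e]
  infer_instance

/-- The dimension of preimages under an orbit map. -/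
theorem exists_orbit_dim {gd : ℕ} (hgd : topologicalKrullDim ↥G.left = gd)
    (ξ : 𝟙_ (Over (Spec (CommRingCat.of k))) ⟶ X) :
    ∃ (O : Scheme.{u}) (z : O ⟶ X.left) (π : G.left ⟶ O) (d e : ℕ), IsImmersion z ∧
      Set.range z.base = Set.range (a.orbitMap ξ).left.base ∧ π ≫ z = (a.orbitMap ξ).left ∧ gd = d + e ∧
      topologicalKrullDim ↥(Set.range (a.orbitMap ξ).left.base) = d ∧
      ∀ A : Set O, IsClosed A →
        (∀ W, IsComp (π.base ⁻¹' A) W → ∃ C, IsComp A C ∧ topologicalKrullDim ↥W = topologicalKrullDim ↥C + e) ∧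
        (∀ C, IsComp A C → ∃ W, IsComp (π.base ⁻¹' A) W ∧ topologicalKrullDim ↥W = topologicalKrullDim ↥C + e) := by
  obtain ⟨O, z, π, hz, _, hr, hπ, _, _, _⟩ := exists_orbit a ξ
  let qO : O ⟶ Spec (CommRingCat.of k) := z ≫ X.hom
  have hq : π ≫ qO = G.hom := by rw [reassoc_of% hπ, Over.w]
  haveI : LocallyOfFiniteType qO := inferInstance
  haveI : CompactSpace G.left := QuasiCompact.compactSpace_of_compactSpace G.hom
  haveI : CompactSpace O := ⟨by rw [← π.surjective.range_eq]; exact isCompact_range π.continuous⟩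
  haveI : QuasiCompact qO := inferInstance
  haveI := noetherianSpace qO
  obtain ⟨d, hd⟩ := exists_nat qO isClosed_univ (IrreducibleSpace.isIrreducible_univ O)
  rw [(Homeomorph.Set.univ O).isHomeomorph.topologicalKrullDim_eq] at hd
  have hle := (Groth.Agent.S14404.result k G.hom qO π hq).1
  rw [hd, hgd] at hle
  have hdgd : d ≤ gd := by exact_mod_cast hle
  refine ⟨O, z, π, d, gd - d, hz, hr, hπ, by omega,
    by rw [← GrothLib.Dim.IsEmbedding.topologicalKrullDim_eq z.isEmbedding hr, hd], fun A hA => ?_⟩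
  have key : ∀ V : Set O, IsClosed V → IsIrreducible V → ∀ W, IsComp (π.base ⁻¹' V) W →
      topologicalKrullDim ↥W = topologicalKrullDim ↥V + ((gd - d : ℕ) : WithBot ℕ∞) := by
    intro V hV hVi W hW
    let j := pullback.fst π (𝟙 O)
    have hj : j.base ⁻¹' (π.base ⁻¹' V) = (pullback.snd π (𝟙 O)).base ⁻¹' V := by
      ext w
      show π (j w) ∈ V ↔ pullback.snd π (𝟙 O) w ∈ V
      rw [← Scheme.Hom.comp_apply, pullback.condition, Category.comp_id]
    have h1 := hW.preimage j.isEmbedding (by rw [j.surjective.range_eq]; exact Set.subset_univ _)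
    rw [hj] at h1
    rw [← dim_preimage j.isEmbedding (show W ⊆ Set.range j.base by rw [j.surjective.range_eq]; exact Set.subset_univ _),
      ← h1.dim_mem]
    refine Groth.Agent.S10941.result k G.hom qO qO π hq (gd - d) (fun Z hZ => ?_) (𝟙 O) (Category.id_comp _) V hV hVi _ h1.mem
    rw [irreducibleComponents_eq_singleton, Set.mem_singleton_iff] at hZ
    subst hZ
    rw [(Homeomorph.Set.univ G.left).isHomeomorph.topologicalKrullDim_eq, hd, hgd]
    exact_mod_cast (show gd = d + (gd - d) by omega)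
  refine ⟨fun W hW => ?_, fun C hC => ?_⟩
  · obtain ⟨C, hC, hWC⟩ := exists_isComp (hW.1.1.image π.base π.continuous.continuousOn)
      (Set.image_subset_iff.2 hW.1.2)
    exact ⟨C, hC, key C (hC.isClosed hA) hC.1.1 W
      (hW.mono (Set.preimage_mono hC.1.2) (Set.image_subset_iff.1 hWC))⟩
  · classical
    let others := {C' | IsComp A C' ∧ C' ≠ C}
    have hfin : others.Finite := (finite_isComp A).subset fun _ h => h.1
    have hoc : IsClosed (⋃₀ others) := hfin.isClosed_biUnion (fun C' h => h.1.isClosed hA) |>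
      fun h => by rwa [Set.sUnion_eq_biUnion]
    obtain ⟨c, hc, hco⟩ : ∃ c ∈ C, c ∉ ⋃₀ others := by
      by_contra hne
      push Not at hne
      obtain ⟨C', hC', hCC'⟩ := isIrreducible_iff_sUnion_isClosed.1 hC.1.1 hfin.toFinset
        (fun C' h => (hfin.mem_toFinset.1 h).1.isClosed hA) (by rw [hfin.coe_toFinset]; exact hne)
      rw [hfin.mem_toFinset] at hC'
      exact hC'.2 ((hC.2 hC'.1.1 hCC').antisymm hCC')
    obtain ⟨x, hx⟩ := π.surjective c
    obtain ⟨W, hW, hxW⟩ := exists_isComp (A := π.base ⁻¹' A) (s := {x}) isIrreducible_singleton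
      (Set.singleton_subset_iff.2 (show π x ∈ A from hx ▸ hC.1.2 hc))
    have hWC : W ⊆ π.base ⁻¹' C := by
      refine (subset_closure_inter hW.1.1 (hoc.isOpen_compl.preimage π.continuous)
        ⟨x, hxW rfl, show π x ∉ _ from hx ▸ hco⟩).trans
        (closure_minimal ?_ ((hC.isClosed hA).preimage π.continuous))
      rintro w ⟨hw, hwo⟩
      obtain ⟨C', hC', hwC'⟩ := exists_isComp (A := A) (s := {π w}) isIrreducible_singleton
        (Set.singleton_subset_iff.2 (hW.1.2 hw))
      by_contra hwC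
      exact hwo ⟨C', ⟨hC', fun h => hwC (h ▸ hwC' rfl)⟩, hwC' rfl⟩
    exact ⟨W, hW, key C (hC.isClosed hA) hC.1.1 W (hW.mono (Set.preimage_mono hC.1.2) hWC)⟩

variable [IsSeparated G.hom]

/-- General translates meet properly inside an orbit. -/
theorem exists_open_translate_inter (ξ : 𝟙_ (Over (Spec (CommRingCat.of k))) ⟶ X)
    {A₁ A₂ : Set X.left} (h₁ : IsClosed A₁) (h₂ : IsClosed A₂) {d r₁ r₂ : ℕ}
    (hd : topologicalKrullDim ↥(Set.range (a.orbitMap ξ).left.base) = d)
    (hr₁ : ∀ C, IsComp (A₁ ∩ Set.range (a.orbitMap ξ).left.base) C → topologicalKrullDim ↥C = r₁)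
    (hr₂ : ∀ C, IsComp (A₂ ∩ Set.range (a.orbitMap ξ).left.base) C → topologicalKrullDim ↥C = r₂) :
    ∃ V : G.left.Opens, genericPoint G.left ∈ V ∧
      ∀ σ : 𝟙_ (Over (Spec (CommRingCat.of k))) ⟶ G, Set.range σ.left.base ⊆ (V : Set G.left) →
        ∀ C, IsComp ((tr a σ).left.base '' A₁ ∩ A₂ ∩ Set.range (a.orbitMap ξ).left.base) C →
          d ≤ r₁ + r₂ ∧ topologicalKrullDim ↥C = ((r₁ + r₂ - d : ℕ) : WithBot ℕ∞) := by
  obtain ⟨gd, hgd⟩ := exists_nat G.hom isClosed_univ (IrreducibleSpace.isIrreducible_univ G.left)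
  rw [(Homeomorph.Set.univ G.left).isHomeomorph.topologicalKrullDim_eq] at hgd
  obtain ⟨O, z, π, d', e, hz, hr, hπ, hde, hd', hA⟩ := exists_orbit_dim a hgd ξ
  have hdd : d' = d := by exact_mod_cast hd'.symm.trans hd
  subst hdd
  let π₀ := (a.orbitMap ξ).left
  have hπ₀ : ∀ A : Set X.left, π₀.base ⁻¹' A = π.base ⁻¹' (z.base ⁻¹' A) := fun A => by
    ext w
    show π₀ w ∈ A ↔ z (π w) ∈ A
    rw [← Scheme.Hom.comp_apply, hπ]
  have hdim : ∀ (A : Set X.left) (r : ℕ), IsClosed A →
      (∀ C, IsComp (A ∩ Set.range (a.orbitMap ξ).left.base) C → topologicalKrullDim ↥C = r) →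
      ∀ W, IsComp (π₀.base ⁻¹' A) W → topologicalKrullDim ↥W = ((r + e : ℕ) : WithBot ℕ∞) := by
    intro A r hAc hAr W hW
    rw [hπ₀] at hW
    obtain ⟨C, hC, hWC⟩ := (hA _ (hAc.preimage z.continuous)).1 W hW
    have h1 := hC.image z.isEmbedding
    rw [Set.image_preimage_eq_inter_range, hr] at h1
    rw [hWC, ← dim_eq_of_embedding z.isEmbedding C, hAr _ h1, Nat.cast_add]
  let P := G ⊗ G
  haveI : LocallyOfFiniteType P.hom := by
    show LocallyOfFiniteType (pullback.fst G.hom G.hom ≫ G.hom); infer_instance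
  haveI : QuasiCompact P.hom := by
    show QuasiCompact (pullback.fst G.hom G.hom ≫ G.hom); infer_instance
  let q : G ⊗ G ⟶ G := fst G G * (snd G G)⁻¹
  let N : Set P.left := (fst G G).left.base ⁻¹' (π₀.base ⁻¹' A₂) ∩ (snd G G).left.base ⁻¹' (π₀.base ⁻¹' A₁)
  have hN : IsClosed N :=
    ((h₂.preimage π₀.continuous).preimage (fst G G).left.continuous).inter
      ((h₁.preimage π₀.continuous).preimage (snd G G).left.continuous)
  obtain ⟨V, hV, hV'⟩ := exists_open_fibre P.hom G.hom q.left (Over.w q) hN (D := r₂ + e + (r₁ + e))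
    (fun W hW => dim_isComp_prod G.hom G.hom (h₂.preimage π₀.continuous) (h₁.preimage π₀.continuous)
      (hdim A₂ r₂ h₂ hr₂) (hdim A₁ r₁ h₁ hr₁) W hW) hgd
  refine ⟨V, hV, fun σ hσ C hC => ?_⟩
  haveI := isIso_tr a σ
  let τ := (tr a σ).left
  -- back to the orbit
  have hC0 := hC.preimage τ.isEmbedding (by rw [τ.surjective.range_eq]; exact Set.subset_univ _)
  rw [Set.preimage_inter, Set.preimage_inter, Set.preimage_image_eq _ τ.isEmbedding.injective,
    tr_preimage_range] at hC0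
  have hC1 := hC0.preimage z.isEmbedding (by rw [hr]; exact Set.inter_subset_right)
  rw [Set.preimage_inter (t := Set.range (a.orbitMap ξ).left.base), ← hr, Set.preimage_range, Set.inter_univ] at hC1
  obtain ⟨W, hW, hWC⟩ := (hA _ ((h₁.inter (h₂.preimage τ.continuous)).preimage z.continuous)).2 _ hC1
  rw [← hπ₀] at hW
  let j : G ⟶ G ⊗ G := lift (ltr σ) (𝟙 G)
  haveI : IsSeparated (snd G G).left := inferInstanceAs (IsSeparated (pullback.snd G.hom G.hom))
  haveI : IsClosedImmersion (j.left ≫ (snd G G).left) := by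
    rw [← Over.comp_left, lift_snd]; show IsClosedImmersion (𝟙 _); infer_instance
  haveI : IsClosedImmersion j.left := IsClosedImmersion.of_comp j.left (snd G G).left
  have hjq : j ≫ q = toUnit G ≫ σ := by
    rw [MonObj.comp_mul, GrpObj.comp_inv, lift_fst, lift_snd, ltr, mul_inv_cancel_right]
  have hjN : j.left.base ⁻¹' N = π₀.base ⁻¹' (A₁ ∩ τ.base ⁻¹' A₂) := by
    ext w
    show ((fst G G).left (j.left w) ∈ π₀.base ⁻¹' A₂ ∧ (snd G G).left (j.left w) ∈ π₀.base ⁻¹' A₁) ↔
      π₀ w ∈ A₁ ∧ τ (π₀ w) ∈ A₂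
    rw [← Scheme.Hom.comp_apply, ← Scheme.Hom.comp_apply, ← Over.comp_left, ← Over.comp_left, lift_fst, lift_snd,
      Set.mem_preimage, Set.mem_preimage, ← Scheme.Hom.comp_apply, ← Over.comp_left, ltr_orbitMap, Over.comp_left,
      Scheme.Hom.comp_apply]
    exact And.comm
  let s := σ.left.base (IsLocalRing.closedPoint k)
  have hsc : IsClosed ({s} : Set G.left) := (pointEquivClosedPoint G.hom ⟨σ.left, Over.w σ⟩).2
  have hrange : Set.range j.left.base = q.left.base ⁻¹' {s} := by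
    refine Set.Subset.antisymm ?_ ?_
    · rintro _ ⟨w, rfl⟩
      show q.left (j.left w) = s
      rw [← Scheme.Hom.comp_apply, ← Over.comp_left, hjq, Over.comp_left, Scheme.Hom.comp_apply]
      exact congrArg σ.left.base (Subsingleton.elim (α := ↥(Spec (CommRingCat.of k))) _ _)
    · refine subset_of_closedPoints (hsc.preimage q.left.continuous) j.left.isClosedEmbedding.isClosed_range
        fun p hp => ?_
      have hpq : p ≫ q = σ := ratPt_ext hp
      rw [MonObj.comp_mul, GrpObj.comp_inv, mul_inv_eq_iff_eq_mul] at hpq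
      have hp' : (p ≫ snd G G) ≫ j = p := by
        apply CartesianMonoidalCategory.hom_ext
        · rw [Category.assoc, lift_fst, ltr, MonObj.comp_mul, Category.comp_id, ← Category.assoc,
            toUnit_unique (_ ≫ toUnit G) (𝟙 _), Category.id_comp, hpq]
        · rw [Category.assoc, lift_snd, Category.comp_id]
      exact ⟨(p ≫ snd G G).left.base (IsLocalRing.closedPoint k), by rw [← GrothLib.Orbit27.comp_apply, hp']⟩
  rw [← hjN] at hW
  have h1 := hW.image j.left.isEmbedding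
  rw [Set.image_preimage_eq_inter_range, hrange] at h1
  obtain ⟨hle, hval⟩ := hV' s (hσ ⟨_, rfl⟩) _ h1
  obtain ⟨c, hc⟩ := exists_nat (z ≫ X.hom) (hC1.isClosed ((h₁.inter (h₂.preimage τ.continuous)).preimage z.continuous))
    hC1.1.1
  rw [dim_eq_of_embedding j.left.isEmbedding, hWC, hc] at hval
  have hval' : c + e = r₂ + e + (r₁ + e) - gd := by exact_mod_cast hval
  have hC0z : (tr a σ).left.base ⁻¹' C ⊆ Set.range z.base := hr.symm ▸ hC0.1.2.trans Set.inter_subset_right
  rw [dim_preimage z.isEmbedding hC0z, dim_preimage τ.isEmbedding (by rw [τ.surjective.range_eq]; exact Set.subset_univ _)] at hc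
  refine ⟨by omega, ?_⟩
  rw [hc]
  congr 1
  omega

end GrothLib.Kleiman27
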