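import Groth.Agent.Lib.Kleiman27.Finite

/-!
# Translates in homogeneous spaces and in spaces with finitely many orbits
-/

universe u

open CategoryTheory CategoryTheory.Limits MonoidalCategory CartesianMonoidalCategory MonObj GrpObj
open AlgebraicGeometry TopologicalSpace Topology
open GrothLib.Orbit27 (ratPt ratPt_apply ratPt_ext)

namespace GrothLib.Kleiman27

variable {k : Type u} [Field k] [IsAlgClosed k] {G X : Over (Spec (CommRingCat.of k))} [GrpObj G]
  [IsIntegral G.left] [LocallyOfFiniteType G.hom] [QuasiCompact G.hom]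
  [LocallyOfFiniteType X.hom] [QuasiCompact X.hom] [IsSeparated G.hom] (a : AlgGrp.Action G X)

theorem nonempty_opens {P : Scheme.{u}} [IrreducibleSpace P] {V : P.Opens} (h : genericPoint P ∈ V) :
    (V : Set P).Nonempty := ⟨_, h⟩

theorem homogeneous [IsIntegral X.left]
    (htrans : ∀ x x' : 𝟙_ (Over (Spec (CommRingCat.of k))) ⟶ X,
      ∃ σ : 𝟙_ (Over (Spec (CommRingCat.of k))) ⟶ G, lift σ x ≫ a.act = x')
    (Y₁ Y₂ : Set ↥X.left) (h₁c : IsClosed Y₁) (h₁i : IsIrreducible Y₁) (h₂c : IsClosed Y₂) (h₂i : IsIrreducible Y₂)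
    (n r s : ℕ) (hn : topologicalKrullDim ↥X.left = n) (hr : topologicalKrullDim ↥Y₁ = r)
    (hs : topologicalKrullDim ↥Y₂ = s) :
    ∃ V : G.left.Opens, (V : Set ↥G.left).Nonempty ∧
      ∀ σ : 𝟙_ (Over (Spec (CommRingCat.of k))) ⟶ G, Set.range ⇑σ.left.base ⊆ (V : Set ↥G.left) →
        (tr a σ).left.base '' Y₁ ∩ Y₂ = ∅ ∨
        (n ≤ r + s ∧ ∀ C ∈ irreducibleComponents ↥((tr a σ).left.base '' Y₁ ∩ Y₂),
          topologicalKrullDim ↥C = ((r + s - n : ℕ) : WithBot ℕ∞)) := by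
  haveI : JacobsonSpace X.left := LocallyOfFiniteType.jacobsonSpace X.hom
  obtain ⟨x₀, -, hx₀⟩ := nonempty_inter_closedPoints (Z := (Set.univ : Set X.left))
    ⟨genericPoint X.left, trivial⟩ isOpen_univ.isLocallyClosed
  let ξ := ratPt x₀ hx₀
  have hcl : ∀ z : X.left, z ∈ closedPoints X.left → z ∈ orb a ξ := by
    intro z hz
    obtain ⟨σ, hσ⟩ := htrans ξ (ratPt z hz)
    refine ⟨σ.left.base (IsLocalRing.closedPoint k), ?_⟩
    rw [← GrothLib.Orbit27.comp_apply, GrothLib.FlatFactor.comp_orbitMap, toUnit_unique (toUnit _) (𝟙 _),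
      Category.id_comp, hσ, ratPt_apply]
  have huniv : orb a ξ = Set.univ := by
    obtain ⟨U, Z, hU, hZ, hS⟩ := Groth.Agent.S7984.result k G X a ξ
    have hS' : orb a ξ = U ∩ Z := hS
    rw [hS', Set.eq_univ_iff_forall]
    intro x
    refine ⟨?_, ?_⟩
    · by_contra hx
      obtain ⟨z, hz, hzc⟩ := nonempty_inter_closedPoints (Z := Uᶜ) ⟨x, hx⟩ hU.isClosed_compl.isLocallyClosed
      exact hz (hS'.le (hcl z hzc)).1
    · by_contra hx
      obtain ⟨z, hz, hzc⟩ := nonempty_inter_closedPoints (Z := Zᶜ) ⟨x, hx⟩ hZ.isOpen_compl.isLocallyClosed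
      exact hz (hS'.le (hcl z hzc)).2
  have hY : ∀ (Y : Set X.left), IsIrreducible Y → ∀ t : ℕ, topologicalKrullDim ↥Y = t →
      ∀ C, IsComp (Y ∩ orb a ξ) C → topologicalKrullDim ↥C = t := by
    intro Y hY t ht C hC
    rw [huniv, Set.inter_univ] at hC
    rw [hC.1.2.antisymm (hC.2 ⟨hY, subset_rfl⟩ hC.1.2), ht]
  obtain ⟨V, hV, hV'⟩ := exists_open_translate_inter a ξ h₁c h₂c (d := n)
    (by
      show topologicalKrullDim ↥(orb a ξ) = n
      rw [huniv, ← hn]
      exact (Homeomorph.Set.univ X.left).isHomeomorph.topologicalKrullDim_eq)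
    (hY Y₁ h₁i r hr) (hY Y₂ h₂i s hs)
  refine ⟨V, nonempty_opens hV, fun σ hσ => ?_⟩
  have h : ∀ C, IsComp ((tr a σ).left.base '' Y₁ ∩ Y₂) C →
      n ≤ r + s ∧ topologicalKrullDim ↥C = ((r + s - n : ℕ) : WithBot ℕ∞) := by
    intro C hC
    refine hV' σ hσ C ?_
    rwa [show Set.range (a.orbitMap ξ).left.base = Set.univ from huniv, Set.inter_univ]
  rcases Set.eq_empty_or_nonempty ((tr a σ).left.base '' Y₁ ∩ Y₂) with he | ⟨c, hc⟩
  · exact Or.inl he
  obtain ⟨C, hC, -⟩ := exists_isComp (s := {c}) isIrreducible_singleton (Set.singleton_subset_iff.2 hc)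
  refine Or.inr ⟨(h C hC).1, fun C hC => ?_⟩
  rw [← dim_eq_of_embedding IsEmbedding.subtypeVal C]
  exact (h _ (IsComp.of_mem hC)).2

variable (hfin : Set.Finite {S : Set ↥X.left | ∃ ξ : 𝟙_ (Over (Spec (CommRingCat.of k))) ⟶ X, S = orb a ξ})

theorem dim_le_of_subset {T : Type*} [TopologicalSpace T] {A B : Set T} (h : A ⊆ B) :
    topologicalKrullDim ↥A ≤ topologicalKrullDim ↥B :=
  (IsEmbedding.inclusion h).isInducing.topologicalKrullDim_le

include hfin in
theorem complementary [IsIntegral X.left] (Y₁ Y₂ : Set ↥X.left) (h₁c : IsClosed Y₁) (h₂c : IsClosed Y₂) (n r s : ℕ)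
    (hn : topologicalKrullDim ↥X.left = n) (hrs : r + s = n)
    (hproper : ∀ (ξ : 𝟙_ (Over (Spec (CommRingCat.of k))) ⟶ X) (d : ℕ), topologicalKrullDim ↥(closure (orb a ξ)) = d →
      (∀ C ∈ irreducibleComponents ↥(Y₁ ∩ closure (orb a ξ)),
          n ≤ r + d ∧ topologicalKrullDim ↥C = ((r + d - n : ℕ) : WithBot ℕ∞)) ∧
      (∀ C ∈ irreducibleComponents ↥(Y₂ ∩ closure (orb a ξ)),
          n ≤ s + d ∧ topologicalKrullDim ↥C = ((s + d - n : ℕ) : WithBot ℕ∞))) :
    ∃ V : G.left.Opens, (V : Set ↥G.left).Nonempty ∧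
      ∀ σ : 𝟙_ (Over (Spec (CommRingCat.of k))) ⟶ G, Set.range ⇑σ.left.base ⊆ (V : Set ↥G.left) →
        ∀ x₀ : 𝟙_ (Over (Spec (CommRingCat.of k))) ⟶ X, IsOpen (orb a x₀) →
          (tr a σ).left.base '' Y₁ ∩ Y₂ ⊆ orb a x₀ := by
  obtain ⟨V, hV, hV'⟩ := exists_open_pieces a hfin Y₁ Y₂ h₁c h₂c n r s hproper
  refine ⟨V, nonempty_opens hV, fun σ hσ x₀ hx₀ p hp => ?_⟩
  obtain ⟨ξ, hξ⟩ := exists_mem_orb a hfin p
  obtain ⟨d, hd⟩ := exists_nat X.hom isClosed_closure (isIrreducible_orb a ξ).closure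
  obtain ⟨C, hC, -⟩ := exists_isComp (s := {p}) isIrreducible_singleton
    (Set.singleton_subset_iff.2 (show p ∈ (tr a σ).left.base '' Y₁ ∩ Y₂ ∩ orb a ξ from ⟨hp, hξ⟩))
  have hle := (hV' σ hσ ξ d hd C hC).1
  have hdn : d ≤ n := by
    have := topologicalKrullDim_subspace_le X.left (closure (orb a ξ))
    rw [hd, hn] at this
    exact_mod_cast this
  have hd' : topologicalKrullDim ↥(closure (orb a ξ)) = n := hd.trans (by congr 1; omega)
  have hdense := GrothLib.Dim.eq_univ_of_dim_le isClosed_closure (hn.trans hd'.symm).le hd'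
  obtain ⟨U, hU, hS⟩ := exists_eq_closure_inter (Groth.Agent.S7984.result k G X a ξ)
  have hSo : IsOpen (orb a ξ) := by
    have hS' : orb a ξ = U := by
      show Set.range (a.orbitMap ξ).left.base = U
      rw [hS, show closure (Set.range (a.orbitMap ξ).left.base) = Set.univ from hdense, Set.univ_inter]
    rw [hS']
    exact hU
  haveI : JacobsonSpace X.left := LocallyOfFiniteType.jacobsonSpace X.hom
  -- two open orbits coincide
  by_contra hp₀
  obtain ⟨y, hy1, hy2⟩ := nonempty_preirreducible_inter hSo hx₀ ⟨p, hξ⟩ (isIrreducible_orb a x₀).nonempty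
  have hst : ∀ g, (tr a g).left.base ⁻¹' (orb a x₀)ᶜ = (orb a x₀)ᶜ := fun g => by
    rw [Set.preimage_compl]
    exact congrArg _ (tr_preimage_range a g x₀)
  exact orb_subset a hx₀.isClosed_compl hst ξ hp₀ hξ hy1 hy2

include hfin in
theorem proper [IsIntegral X.left] [Smooth X.hom] [IsSeparated X.hom]
    (Y₁ Y₂ : Set ↥X.left) (h₁c : IsClosed Y₁) (h₂c : IsClosed Y₂) (h₂i : IsIrreducible Y₂) (n r s : ℕ)
    (hn : topologicalKrullDim ↥X.left = n) (hs : topologicalKrullDim ↥Y₂ = s)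
    (hproper : ∀ (ξ : 𝟙_ (Over (Spec (CommRingCat.of k))) ⟶ X) (d : ℕ), topologicalKrullDim ↥(closure (orb a ξ)) = d →
      (∀ C ∈ irreducibleComponents ↥(Y₁ ∩ closure (orb a ξ)),
          n ≤ r + d ∧ topologicalKrullDim ↥C = ((r + d - n : ℕ) : WithBot ℕ∞)) ∧
      (∀ C ∈ irreducibleComponents ↥(Y₂ ∩ closure (orb a ξ)),
          n ≤ s + d ∧ topologicalKrullDim ↥C = ((s + d - n : ℕ) : WithBot ℕ∞))) :
    ∃ V : G.left.Opens, (V : Set ↥G.left).Nonempty ∧
      ∀ σ : 𝟙_ (Over (Spec (CommRingCat.of k))) ⟶ G, Set.range ⇑σ.left.base ⊆ (V : Set ↥G.left) →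
        (∀ C ∈ irreducibleComponents ↥((tr a σ).left.base '' Y₁ ∩ Y₂),
          n ≤ r + s ∧ topologicalKrullDim ↥C = ((r + s - n : ℕ) : WithBot ℕ∞)) ∧
        ∀ (x : 𝟙_ (Over (Spec (CommRingCat.of k))) ⟶ X) (d : ℕ), topologicalKrullDim ↥(closure (orb a x)) = d →
          ∀ C ∈ irreducibleComponents ↥(((tr a σ).left.base '' Y₁ ∩ Y₂) ∩ closure (orb a x)),
            2 * n ≤ r + s + d ∧ topologicalKrullDim ↥C = ((r + s + d - 2 * n : ℕ) : WithBot ℕ∞) := by
  obtain ⟨V, hV, hV'⟩ := exists_open_pieces a hfin Y₁ Y₂ h₁c h₂c n r s hproper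
  refine ⟨V, nonempty_opens hV, fun σ hσ => ?_⟩
  haveI := isIso_tr a σ
  let τ := (tr a σ).left
  have hB : IsClosed (τ.base '' Y₁ ∩ Y₂) := (τ.isClosedEmbedding.isClosedMap Y₁ h₁c).inter h₂c
  have second : ∀ (x : 𝟙_ (Over (Spec (CommRingCat.of k))) ⟶ X) (d : ℕ), topologicalKrullDim ↥(closure (orb a x)) = d →
      ∀ C, IsComp ((τ.base '' Y₁ ∩ Y₂) ∩ closure (orb a x)) C →
        2 * n ≤ r + s + d ∧ topologicalKrullDim ↥C = ((r + s + d - 2 * n : ℕ) : WithBot ℕ∞) := by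
    intro x d hd C hC
    have hCc := hC.isClosed (hB.inter isClosed_closure)
    have hη := hC.1.1.isGenericPoint_genericPoint hCc
    obtain ⟨ξ, hξ⟩ := exists_mem_orb a hfin hC.1.1.genericPoint
    obtain ⟨d', hd'⟩ := exists_nat X.hom isClosed_closure (isIrreducible_orb a ξ).closure
    have hst : ∀ g, (tr a g).left.base ⁻¹' closure (orb a x) = closure (orb a x) := fun g => by
      haveI := isIso_tr a g
      exact (((tr a g).left.homeomorph).preimage_closure (orb a x)).trans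
        (congrArg closure (tr_preimage_range a g x))
    have hsub : orb a ξ ⊆ closure (orb a x) := orb_subset a isClosed_closure hst ξ (hC.1.2 hη.mem).2 hξ
    have hd'd : d' ≤ d := by
      have h' := dim_le_of_subset (closure_minimal hsub isClosed_closure)
      rw [hd', hd] at h'
      exact_mod_cast h'
    have hdense : C ⊆ closure (C ∩ orb a ξ) := by
      intro c hc
      exact closure_mono (show {hC.1.1.genericPoint} ⊆ C ∩ orb a ξ from Set.singleton_subset_iff.2 ⟨hη.mem, hξ⟩)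
        (hη.def.symm.le hc)
    have h1 := hC.inter (hB.inter isClosed_closure) hdense
    rw [Set.inter_assoc _ (closure (orb a x)), Set.inter_eq_right.2 hsub] at h1
    obtain ⟨h2, h3⟩ := hV' σ hσ ξ d' hd' _ h1
    obtain ⟨U, hU, hS⟩ := exists_eq_closure_inter (Groth.Agent.S7984.result k G X a ξ)
    have hCcl : C ⊆ closure (orb a ξ) := hdense.trans (closure_mono Set.inter_subset_right)
    have hCU : C ∩ orb a ξ = C ∩ U := by
      refine Set.Subset.antisymm (fun z hz => ⟨hz.1, (hS.le hz.2).2⟩) fun z hz => ⟨hz.1, ?_⟩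
      exact hS.ge ⟨hCcl hz.1, hz.2⟩
    have hdimC : topologicalKrullDim ↥C = ((r + s + d' - 2 * n : ℕ) : WithBot ℕ∞) := by
      rw [← h3, hCU]
      exact (dim_inter X.hom hCc hC.1.1 ⟨U, hU⟩ (show (C ∩ U).Nonempty from hCU ▸ ⟨_, hη.mem, hξ⟩)).symm
    -- the lower bound
    obtain ⟨E, hE, hCE⟩ := exists_isComp (A := τ.base '' Y₁ ∩ closure (orb a x)) hC.1.1
      (fun c hc => ⟨(hC.1.2 hc).1.1, (hC.1.2 hc).2⟩)
    have hE' := hE.preimage τ.isEmbedding (by rw [τ.surjective.range_eq]; exact Set.subset_univ _)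
    rw [Set.preimage_inter, Set.preimage_image_eq _ τ.isEmbedding.injective, hst] at hE'
    obtain ⟨hrd, hdimE⟩ := (hproper x d hd).1 _ hE'.mem
    rw [hE'.dim_mem, dim_preimage τ.isEmbedding (by rw [τ.surjective.range_eq]; exact Set.subset_univ _)] at hdimE
    have hC' : IsComp (E ∩ Y₂) C := hC.mono (fun z hz => ⟨⟨(hE.1.2 hz.1).1, hz.2⟩, (hE.1.2 hz.1).2⟩)
      fun c hc => ⟨hCE hc, (hC.1.2 hc).1.2⟩
    have hlow := Groth.Agent.S19416.result k X.left X.hom n (r + d - n) s hn E Y₂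
      (hE.isClosed ((τ.isClosedEmbedding.isClosedMap Y₁ h₁c).inter isClosed_closure)) hE.1.1 h₂c h₂i hdimE hs _ hC'.mem
    rw [hC'.dim_mem, hdimC] at hlow
    have hlow' : r + d - n + s ≤ r + s + d' - 2 * n + n := by exact_mod_cast hlow
    refine ⟨by omega, ?_⟩
    rw [hdimC]
    congr 1
    omega
  refine ⟨fun C hC => ?_, fun x d hd C hC => ?_⟩
  · obtain ⟨ξ, hξ⟩ := exists_mem_orb a hfin (genericPoint X.left)
    have hcl : closure (orb a ξ) = Set.univ :=
      Set.univ_subset_iff.1 ((genericPoint_spec X.left).def.symm.le.trans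
        (closure_mono (Set.singleton_subset_iff.2 hξ)))
    have hd : topologicalKrullDim ↥(closure (orb a ξ)) = n := by
      rw [hcl, ← hn]
      exact (Homeomorph.Set.univ X.left).isHomeomorph.topologicalKrullDim_eq
    have h := second ξ n hd _ (by rw [hcl, Set.inter_univ]; exact IsComp.of_mem hC)
    rw [← dim_eq_of_embedding IsEmbedding.subtypeVal C, h.2]
    refine ⟨by have := h.1; omega, ?_⟩
    congr 1
    omega
  · rw [← dim_eq_of_embedding IsEmbedding.subtypeVal C]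
    exact second x d hd _ (IsComp.of_mem hC)

end GrothLib.Kleiman27
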