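import Mathlib.Topology.Irreducible
import Mathlib.Topology.NoetherianSpace
import Mathlib.Topology.LocallyClosed
import Mathlib.Topology.KrullDimension

/-!
# Maximal irreducible subsets of a subset
-/

open Topology TopologicalSpace

namespace GrothLib.Kleiman27

variable {T T' : Type*} [TopologicalSpace T] [TopologicalSpace T']

/-- `C` is an irreducible component of the subset `A`. -/
def IsComp (A C : Set T) : Prop :=
  Maximal (fun C => IsIrreducible C ∧ C ⊆ A) C

theorem isPreirreducible_preimage {f : T → T'} (hf : IsInducing f) {s : Set T'} (hs : s ⊆ Set.range f)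
    (h : IsPreirreducible s) : IsPreirreducible (f ⁻¹' s) := by
  intro u v hu hv ⟨a, ha, hau⟩ ⟨b, hb, hbv⟩
  obtain ⟨U, hU, rfl⟩ := hf.isOpen_iff.1 hu
  obtain ⟨V, hV, rfl⟩ := hf.isOpen_iff.1 hv
  obtain ⟨y, hy, hy'⟩ := h U V hU hV ⟨f a, ha, hau⟩ ⟨f b, hb, hbv⟩
  obtain ⟨x, rfl⟩ := hs hy
  exact ⟨x, hy, hy'⟩

theorem dim_eq_of_embedding {f : T → T'} (hf : IsEmbedding f) (s : Set T) :
    topologicalKrullDim ↥(f '' s) = topologicalKrullDim ↥s := by
  let e : ↥s ≃ₜ ↥(f '' s) := (hf.comp IsEmbedding.subtypeVal).toHomeomorph.trans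
    (Homeomorph.setCongr (by rw [Set.range_comp, Subtype.range_coe]))
  exact (IsHomeomorph.topologicalKrullDim_eq _ e.isHomeomorph).symm

theorem IsComp.image {f : T → T'} (hf : IsEmbedding f) {A C : Set T} (h : IsComp A C) :
    IsComp (f '' A) (f '' C) := by
  refine ⟨⟨h.1.1.image f hf.continuous.continuousOn, Set.image_mono h.1.2⟩, ?_⟩
  rintro C' ⟨hC', hC'A⟩ hle
  have hr : C' ⊆ Set.range f := hC'A.trans (Set.image_subset_range f A)
  have himg : f '' (f ⁻¹' C') = C' := Set.image_preimage_eq_of_subset hr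
  have hirr : IsIrreducible (f ⁻¹' C') :=
    ⟨let ⟨c, hc⟩ := hC'.nonempty; let ⟨b, hb⟩ := hr hc; ⟨b, show f b ∈ C' from hb ▸ hc⟩,
      isPreirreducible_preimage hf.isInducing hr hC'.2⟩
  have h1 : f ⁻¹' C' ⊆ A := (Set.preimage_mono hC'A).trans (hf.injective.preimage_image A).le
  have h2 := h.2 ⟨hirr, h1⟩ ((hf.injective.preimage_image C).ge.trans (Set.preimage_mono hle))
  exact himg.ge.trans (Set.image_mono h2)

theorem IsComp.preimage {f : T → T'} (hf : IsEmbedding f) {A C : Set T'} (hA : A ⊆ Set.range f)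
    (h : IsComp A C) : IsComp (f ⁻¹' A) (f ⁻¹' C) := by
  have hC : C ⊆ Set.range f := h.1.2.trans hA
  refine ⟨⟨⟨let ⟨c, hc⟩ := h.1.1.nonempty; let ⟨b, hb⟩ := hC hc; ⟨b, show f b ∈ C from hb ▸ hc⟩,
    isPreirreducible_preimage hf.isInducing hC h.1.1.2⟩, Set.preimage_mono h.1.2⟩, ?_⟩
  rintro C' ⟨hC', hC'A⟩ hle
  refine Set.image_subset_iff.1 (h.2 ⟨hC'.image f hf.continuous.continuousOn, ?_⟩ ?_)
  · exact Set.image_subset_iff.2 hC'A
  · exact (Set.image_preimage_eq_of_subset hC).ge.trans (Set.image_mono hle)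

theorem dim_preimage {f : T → T'} (hf : IsEmbedding f) {C : Set T'} (hC : C ⊆ Set.range f) :
    topologicalKrullDim ↥(f ⁻¹' C) = topologicalKrullDim ↥C := by
  rw [← dim_eq_of_embedding hf, Set.image_preimage_eq_of_subset hC]

theorem isComp_univ_iff {C : Set T} : IsComp Set.univ C ↔ C ∈ irreducibleComponents T :=
  ⟨fun h => ⟨h.1.1, fun _ h' hle => h.2 ⟨h', Set.subset_univ _⟩ hle⟩,
    fun h => ⟨⟨h.1, Set.subset_univ _⟩, fun _ h' hle => h.2 h'.1 hle⟩⟩

theorem IsComp.of_mem {A : Set T} {C : Set ↥A} (h : C ∈ irreducibleComponents ↥A) :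
    IsComp A (Subtype.val '' C) := by
  simpa using (isComp_univ_iff.2 h).image IsEmbedding.subtypeVal

theorem IsComp.mem {A C : Set T} (h : IsComp A C) :
    Subtype.val ⁻¹' C ∈ irreducibleComponents ↥A := by
  rw [← isComp_univ_iff]
  simpa using h.preimage IsEmbedding.subtypeVal Subtype.range_coe.ge

theorem IsComp.dim_mem {A C : Set T} (h : IsComp A C) :
    topologicalKrullDim ↥(Subtype.val ⁻¹' C : Set ↥A) = topologicalKrullDim ↥C :=
  dim_preimage IsEmbedding.subtypeVal (h.1.2.trans Subtype.range_coe.ge)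

theorem exists_isComp {A s : Set T} (hs : IsIrreducible s) (hsA : s ⊆ A) : ∃ C, IsComp A C ∧ s ⊆ C := by
  have hr : s ⊆ Set.range (Subtype.val : A → T) := hsA.trans Subtype.range_coe.ge
  obtain ⟨u, hu, hsu⟩ := exists_mem_irreducibleComponents_subset_of_isIrreducible (Subtype.val ⁻¹' s : Set ↥A)
    ⟨let ⟨c, hc⟩ := hs.nonempty; ⟨⟨c, hsA hc⟩, hc⟩,
      isPreirreducible_preimage IsEmbedding.subtypeVal.isInducing hr hs.2⟩
  exact ⟨_, IsComp.of_mem hu, (Set.image_preimage_eq_of_subset hr).ge.trans (Set.image_mono hsu)⟩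

theorem IsComp.mono {A A' C : Set T} (h : IsComp A C) (hA : A' ⊆ A) (hC : C ⊆ A') : IsComp A' C :=
  ⟨⟨h.1.1, hC⟩, fun _ hC' hle => h.2 ⟨hC'.1, hC'.2.trans hA⟩ hle⟩

theorem IsComp.isClosed {A C : Set T} (h : IsComp A C) (hA : IsClosed A) : IsClosed C :=
  closure_eq_iff_isClosed.1 ((h.2 ⟨h.1.1.closure, hA.closure_subset_iff.2 h.1.2⟩ subset_closure).antisymm
    subset_closure)

theorem finite_isComp [NoetherianSpace T] (A : Set T) : {C | IsComp A C}.Finite := by
  refine (NoetherianSpace.finite_irreducibleComponents (α := ↥A)).image (Subtype.val '' ·) |>.subset ?_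
  intro C hC
  exact ⟨_, hC.mem, Set.image_preimage_eq_of_subset (hC.1.2.trans Subtype.range_coe.ge)⟩

/-- An open subset meeting an irreducible set is dense in it. -/
theorem subset_closure_inter {C U : Set T} (hC : IsIrreducible C) (hU : IsOpen U) (h : (C ∩ U).Nonempty) :
    C ⊆ closure (C ∩ U) :=
  subset_closure_inter_of_isPreirreducible_of_isOpen hC.2 hU h

/-- Components restricted to a set which is dense in them. -/
theorem IsComp.inter {A C S : Set T} (h : IsComp A C) (hA : IsClosed A) (hd : C ⊆ closure (C ∩ S)) :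
    IsComp (A ∩ S) (C ∩ S) := by
  have hcl : closure (C ∩ S) = C :=
    ((h.isClosed hA).closure_subset_iff.2 Set.inter_subset_left).antisymm hd
  refine ⟨⟨isIrreducible_iff_closure.1 (by rw [hcl]; exact h.1.1), Set.inter_subset_inter_left _ h.1.2⟩, ?_⟩
  rintro C' ⟨hC', hC'A⟩ hle
  have h1 := h.2 ⟨hC'.closure, hA.closure_subset_iff.2 (hC'A.trans Set.inter_subset_left)⟩
    (hd.trans (closure_mono hle))
  exact fun x hx => ⟨h1 (subset_closure hx), (hC'A hx).2⟩

/-- Components of a locally closed piece of a closed set. -/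
theorem IsComp.closure_inter {A C S U : Set T} (h : IsComp (A ∩ S) C) (hA : IsClosed A) (hU : IsOpen U)
    (hS : S = closure S ∩ U) : IsComp (A ∩ closure S) (closure C) ∧ C = closure C ∩ U := by
  have hcl : closure C ⊆ A ∩ closure S :=
    (hA.inter isClosed_closure).closure_subset_iff.2 (h.1.2.trans (Set.inter_subset_inter_right _ subset_closure))
  have key : ∀ C', IsIrreducible C' → C' ⊆ A ∩ closure S → closure C ⊆ C' → C' ∩ U ⊆ C ∧ C' ⊆ closure C := by
    intro C' hC' hsub hle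
    obtain ⟨c, hc⟩ := h.1.1.nonempty
    have hne : (C' ∩ U).Nonempty := ⟨c, hle (subset_closure hc), (hS.le (h.1.2 hc).2).2⟩
    have hd := subset_closure_inter hC' hU hne
    have hirr : IsIrreducible (C' ∩ U) := isIrreducible_iff_closure.1 (by
      rw [(closure_mono Set.inter_subset_left).antisymm (closure_minimal hd isClosed_closure)]
      exact hC'.closure)
    have h1 : C' ∩ U ⊆ C := h.2 ⟨hirr, fun x hx => ⟨(hsub hx.1).1, hS.ge ⟨(hsub hx.1).2, hx.2⟩⟩⟩
      fun x hx => ⟨hle (subset_closure hx), (hS.le (h.1.2 hx).2).2⟩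
    exact ⟨h1, hd.trans (closure_mono h1)⟩
  refine ⟨⟨⟨h.1.1.closure, hcl⟩, fun C' hC' hle => (key C' hC'.1 hC'.2 hle).2⟩, ?_⟩
  exact Set.Subset.antisymm (fun x hx => ⟨subset_closure hx, (hS.le (h.1.2 hx).2).2⟩)
    (key _ h.1.1.closure hcl le_rfl).1

theorem dim_eq_of_forall_isComp {A : Set T} {d : WithBot ℕ∞}
    (h : ∀ C, IsComp A C → topologicalKrullDim ↥C = d) :
    (∀ W : Set ↥A, W ∈ irreducibleComponents ↥A → topologicalKrullDim ↥W = d) := by
  intro W hW
  rw [← dim_eq_of_embedding IsEmbedding.subtypeVal W]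
  exact h _ (IsComp.of_mem hW)

end GrothLib.Kleiman27
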