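import Groth.Agent.Lib.Kleiman27.Comp
import Groth.Agent.Lib.FBase7.Dim
import Groth.Agent.Lib.DimCut.Product
import Groth.Agent.S4781
import Groth.Agent.S10884

/-!
# Components of the general fibre
-/

universe u

open CategoryTheory CategoryTheory.Limits AlgebraicGeometry TopologicalSpace Topology

namespace GrothLib.Kleiman27

variable {k : Type u} [Field k]

theorem noetherianSpace {P : Scheme.{u}} (qP : P ⟶ Spec (CommRingCat.of k)) [LocallyOfFiniteType qP]
    [QuasiCompact qP] : NoetherianSpace P := by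
  haveI : IsLocallyNoetherian P := LocallyOfFiniteType.isLocallyNoetherian qP
  haveI : CompactSpace P := QuasiCompact.compactSpace_of_compactSpace qP
  haveI : IsNoetherian P := ⟨⟩
  infer_instance

/-- A locally closed subset dense in an irreducible closed set has the same dimension. -/
theorem dim_inter {P : Scheme.{u}} (qP : P ⟶ Spec (CommRingCat.of k)) [LocallyOfFiniteType qP]
    {C : Set P} (hC : IsClosed C) (hCi : IsIrreducible C) (U : P.Opens) (hne : (C ∩ (U : Set P)).Nonempty) :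
    topologicalKrullDim ↥(C ∩ (U : Set P)) = topologicalKrullDim ↥C := by
  obtain ⟨n, h1, h2⟩ := GrothLib.Dim.exists_nat_dim_irreducible qP hC hCi
  rw [h1, h2 U hne]

theorem exists_nat {P : Scheme.{u}} (qP : P ⟶ Spec (CommRingCat.of k)) [LocallyOfFiniteType qP]
    {C : Set P} (hC : IsClosed C) (hCi : IsIrreducible C) : ∃ n : ℕ, topologicalKrullDim ↥C = n := by
  obtain ⟨n, h1, -⟩ := GrothLib.Dim.exists_nat_dim_irreducible qP hC hCi
  exact ⟨n, h1⟩

theorem nat_of_le {x : WithBot ℕ∞} {n : ℕ} (h0 : (0 : WithBot ℕ∞) ≤ x) (h : x ≤ (n : WithBot ℕ∞)) :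
    ∃ m : ℕ, x = m := by
  induction x using WithBot.recBotCoe with
  | bot => simp at h0
  | coe a =>
    rw [← WithBot.coe_natCast, WithBot.coe_le_coe] at h
    obtain ⟨m, rfl⟩ := ENat.ne_top_iff_exists.1 (ne_top_of_le_ne_top (ENat.natCast_ne_top n) h)
    exact ⟨m, rfl⟩

/-- The components of the general fibre of a component. -/
theorem exists_open_fibre_of_component {P G : Scheme.{u}} (qP : P ⟶ Spec (CommRingCat.of k))
    (qG : G ⟶ Spec (CommRingCat.of k)) [LocallyOfFiniteType qP] [QuasiCompact qP]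
    [LocallyOfFiniteType qG] [QuasiCompact qG] [IsIntegral G] (q : P ⟶ G) (hq : q ≫ qG = qP)
    {W : Set P} (hW : IsClosed W) (hWi : IsIrreducible W) {D γ : ℕ}
    (hD : topologicalKrullDim ↥W = D) (hG : topologicalKrullDim ↥G = γ) :
    ∃ V : G.Opens, genericPoint G ∈ V ∧ ∀ s ∈ V, ∀ C : Set P, IsComp (W ∩ q.base ⁻¹' {s}) C →
      γ ≤ D ∧ topologicalKrullDim ↥C = ((D - γ : ℕ) : WithBot ℕ∞) := by
  obtain ⟨W', i, _, _, hr⟩ := FBase7.exists_integral_subscheme hW hWi
  let f := i ≫ q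
  haveI : LocallyOfFiniteType (f ≫ qG) := by rw [Category.assoc, hq]; infer_instance
  haveI : LocallyOfFiniteType f := locallyOfFiniteType_of_comp f qG
  haveI : QuasiCompact (f ≫ qG) := by rw [Category.assoc, hq]; infer_instance
  haveI : IsLocallyNoetherian G := LocallyOfFiniteType.isLocallyNoetherian qG
  haveI : CompactSpace G := QuasiCompact.compactSpace_of_compactSpace qG
  haveI : IsNoetherian G := ⟨⟩
  haveI : QuasiCompact f := QuasiCompact.of_comp f qG
  by_cases hdom : DenseRange f.base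
  swap
  · refine ⟨⟨(closure (Set.range f.base))ᶜ, isClosed_closure.isOpen_compl⟩, ?_, fun s hs C hC => ?_⟩
    · intro hg
      exact hdom fun x => (genericPoint_spec G).mem_closed_set_iff isClosed_closure |>.1 hg (Set.mem_univ x)
    · obtain ⟨c, hc⟩ := hC.1.1.nonempty
      obtain ⟨w, hw⟩ := hr.ge (hC.1.2 hc).1
      refine (hs (subset_closure ⟨w, ?_⟩)).elim
      rw [show f w = q (i w) from Scheme.Hom.comp_apply i q w, show i w = c from hw]
      exact (hC.1.2 hc).2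
  haveI : IsDominant f := ⟨hdom⟩
  obtain ⟨U, hU, hfib⟩ := Groth.Agent.S4781.result f
  have hW' : topologicalKrullDim ↥W' = D := (GrothLib.Dim.IsEmbedding.topologicalKrullDim_eq i.isEmbedding hr).trans hD
  obtain ⟨w₀, hw₀⟩ : ∃ w, f.base w = genericPoint G := by
    refine ⟨genericPoint W', ((genericPoint_spec W').image f.continuous).eq ?_⟩
    rw [Set.image_univ, hdom.closure_range]
    exact genericPoint_spec G
  obtain ⟨T, hT, -⟩ := exists_mem_irreducibleComponents_subset_of_isIrreducible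
    ({⟨w₀, hw₀⟩} : Set ↥(f.base ⁻¹' {genericPoint G})) isIrreducible_singleton
  have hdle : topologicalKrullDim ↥(f.base ⁻¹' {genericPoint G}) ≤ (D : WithBot ℕ∞) :=
    (topologicalKrullDim_subspace_le W' _).trans hW'.le
  haveI : Nonempty ↥(f.base ⁻¹' {genericPoint G}) := ⟨⟨w₀, hw₀⟩⟩
  obtain ⟨δ, hδ⟩ : ∃ δ : ℕ, topologicalKrullDim ↥(f.base ⁻¹' {genericPoint G}) = δ :=
    nat_of_le (Order.krullDim_nonneg_iff.2 ⟨⟨T, hT.1, isClosed_of_mem_irreducibleComponents T hT⟩⟩) hdle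
  haveI : Nonempty ↥U := ⟨⟨_, hU⟩⟩
  have hfib' : ∀ y : ↥U, ((f ∣_ U).base ⁻¹' {y}).Nonempty →
      topologicalKrullDim ↥((f ∣_ U).base ⁻¹' {y}) = δ := by
    intro y hne
    have himg : (f ⁻¹ᵁ U).ι '' ((f ∣_ U).base ⁻¹' {y}) = f.base ⁻¹' {U.ι y} := by
      ext w
      refine ⟨?_, fun hw => ?_⟩
      · rintro ⟨v, hv, rfl⟩
        show f ((f ⁻¹ᵁ U).ι v) = U.ι y
        rw [← Scheme.Hom.comp_apply, ← morphismRestrict_ι, Scheme.Hom.comp_apply]
        exact congrArg _ hv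
      · have hwU : w ∈ f ⁻¹ᵁ U := show f w ∈ U from (show f w = U.ι y from hw) ▸ y.2
        refine ⟨⟨w, hwU⟩, U.ι.isOpenEmbedding.injective ?_, rfl⟩
        rw [← Scheme.Hom.comp_apply, morphismRestrict_ι, Scheme.Hom.comp_apply]
        exact hw
    rw [← dim_eq_of_embedding (f ⁻¹ᵁ U).ι.isEmbedding, himg]
    refine le_antisymm (GrothLib.CurveLocus.topologicalKrullDim_le_of_components _ fun T' hT' =>
      (hfib (U.ι y) y.2 T' hT').le.trans hδ.le) ?_
    obtain ⟨v, hv⟩ := hne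
    have hmem : (f ⁻¹ᵁ U).ι v ∈ f.base ⁻¹' {U.ι y} := himg.le ⟨v, hv, rfl⟩
    obtain ⟨T', hT', -⟩ := exists_mem_irreducibleComponents_subset_of_isIrreducible
      ({⟨_, hmem⟩} : Set ↥(f.base ⁻¹' {U.ι y})) isIrreducible_singleton
    exact ((hfib (U.ι y) y.2 T' hT').trans hδ).ge.trans (topologicalKrullDim_subspace_le _ T')
  have hsum : topologicalKrullDim ↥(f ⁻¹ᵁ U).toScheme = (δ : WithBot ℕ∞) + topologicalKrullDim ↥U.toScheme := by
    haveI : LocallyOfFiniteType (U.ι ≫ qG) := inferInstance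
    haveI : QuasiCompact (U.ι ≫ qG) := inferInstance
    refine Groth.Agent.S10884.result k (U.ι ≫ qG) (f ∣_ U) ?_ δ hfib'
    have hd : Dense (U.ι.base ⁻¹' Set.range f.base) := Dense.preimage hdom U.ι.isOpenEmbedding.isOpenMap
    refine hd.mono ?_
    rintro y ⟨w, hw⟩
    refine ⟨⟨w, show f w ∈ U from hw.symm ▸ y.2⟩, U.ι.isOpenEmbedding.injective ?_⟩
    rw [← Scheme.Hom.comp_apply, morphismRestrict_ι, Scheme.Hom.comp_apply]
    exact hw
  have hDsum : (D : WithBot ℕ∞) = (δ : WithBot ℕ∞) + (γ : WithBot ℕ∞) := by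
    rw [← hW', ← hG, ← DimCut.dim_opens_eq qG U ‹_›,
      ← DimCut.dim_opens_eq (i ≫ qP) (f ⁻¹ᵁ U) ⟨⟨w₀, show f w₀ ∈ U from hw₀ ▸ hU⟩⟩]
    exact hsum
  have hDn : D = δ + γ := by exact_mod_cast hDsum
  refine ⟨U, hU, fun s hs C hC => ⟨by omega, ?_⟩⟩
  have hCr : C ⊆ Set.range i := (hC.1.2.trans Set.inter_subset_left).trans hr.ge
  have h1 := hC.preimage i.isEmbedding (Set.inter_subset_left.trans hr.ge)
  have e : i.base ⁻¹' (W ∩ q.base ⁻¹' {s}) = f.base ⁻¹' {s} := by
    ext w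
    exact ⟨fun h => h.2, fun h => ⟨hr.le ⟨w, rfl⟩, h⟩⟩
  rw [e] at h1
  rw [← dim_preimage i.isEmbedding hCr, ← h1.dim_mem, hfib s hs _ h1.mem, hδ]
  congr 1
  omega

/-- The components of the general fibre. -/
theorem exists_open_fibre {P G : Scheme.{u}} (qP : P ⟶ Spec (CommRingCat.of k))
    (qG : G ⟶ Spec (CommRingCat.of k)) [LocallyOfFiniteType qP] [QuasiCompact qP]
    [LocallyOfFiniteType qG] [QuasiCompact qG] [IsIntegral G] (q : P ⟶ G) (hq : q ≫ qG = qP)
    {N : Set P} (hN : IsClosed N) {D γ : ℕ}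
    (hD : ∀ W, IsComp N W → topologicalKrullDim ↥W = D) (hG : topologicalKrullDim ↥G = γ) :
    ∃ V : G.Opens, genericPoint G ∈ V ∧ ∀ s ∈ V, ∀ C : Set P, IsComp (N ∩ q.base ⁻¹' {s}) C →
      γ ≤ D ∧ topologicalKrullDim ↥C = ((D - γ : ℕ) : WithBot ℕ∞) := by
  haveI := noetherianSpace qP
  choose V hV hV' using fun W : {W | IsComp N W} =>
    exists_open_fibre_of_component qP qG q hq (W.2.isClosed hN) W.2.1.1 (hD W.1 W.2) hG
  haveI : Finite {W | IsComp N W} := (finite_isComp N).to_subtype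
  refine ⟨⟨⋂ W, (V W : Set G), isOpen_iInter_of_finite fun W => (V W).2⟩, Set.mem_iInter.2 hV, fun s hs C hC => ?_⟩
  obtain ⟨W, hW, hCW⟩ := exists_isComp hC.1.1 (hC.1.2.trans Set.inter_subset_left)
  exact hV' ⟨W, hW⟩ s (Set.mem_iInter.1 hs ⟨W, hW⟩) C
    (hC.mono (Set.inter_subset_inter_left _ hW.1.2) fun c hc => ⟨hCW hc, (hC.1.2 hc).2⟩)

/-- Components of a product of closed subsets. -/
theorem dim_isComp_prod {X Y : Scheme.{u}} (f : X ⟶ Spec (CommRingCat.of k)) (g : Y ⟶ Spec (CommRingCat.of k))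
    [LocallyOfFiniteType f] [LocallyOfFiniteType g] {A : Set X} {B : Set Y} (hA : IsClosed A) (hB : IsClosed B)
    {a b : ℕ} (ha : ∀ W, IsComp A W → topologicalKrullDim ↥W = a)
    (hb : ∀ W, IsComp B W → topologicalKrullDim ↥W = b) (W : Set ↥(pullback f g))
    (hW : IsComp ((pullback.fst f g).base ⁻¹' A ∩ (pullback.snd f g).base ⁻¹' B) W) :
    topologicalKrullDim ↥W = ((a + b : ℕ) : WithBot ℕ∞) := by
  obtain ⟨A', hA', hWA⟩ := exists_isComp (hW.1.1.image (pullback.fst f g).base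
    (pullback.fst f g).continuous.continuousOn) (Set.image_subset_iff.2 (hW.1.2.trans Set.inter_subset_left))
  obtain ⟨B', hB', hWB⟩ := exists_isComp (hW.1.1.image (pullback.snd f g).base
    (pullback.snd f g).continuous.continuousOn) (Set.image_subset_iff.2 (hW.1.2.trans Set.inter_subset_right))
  obtain ⟨A₁, ia, _, _, hia⟩ := FBase7.exists_integral_subscheme (hA'.isClosed hA) hA'.1.1
  obtain ⟨B₁, ib, _, _, hib⟩ := FBase7.exists_integral_subscheme (hB'.isClosed hB) hB'.1.1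
  let j : pullback (ia ≫ f) (ib ≫ g) ⟶ pullback f g :=
    pullback.map _ _ _ _ ia ib (𝟙 _) (by rw [Category.comp_id]) (by rw [Category.comp_id])
  haveI : IsClosedImmersion j := FBase7.isClosedImmersion_map f g ia ib
  have hr : Set.range j = (pullback.fst f g).base ⁻¹' A' ∩ (pullback.snd f g).base ⁻¹' B' := by
    rw [Scheme.Pullback.range_map, hia, hib]
  have h1 := (hW.mono (Set.inter_subset_inter (Set.preimage_mono hA'.1.2) (Set.preimage_mono hB'.1.2))
    fun w hw => ⟨hWA ⟨w, hw, rfl⟩, hWB ⟨w, hw, rfl⟩⟩)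
  rw [← hr] at h1
  have h2 := h1.preimage j.isEmbedding subset_rfl
  rw [Set.preimage_range, isComp_univ_iff] at h2
  rw [← dim_preimage j.isEmbedding h1.1.2, Groth.Agent.S4662.result (ia ≫ f) (ib ≫ g) _ h2,
    GrothLib.Dim.IsEmbedding.topologicalKrullDim_eq ia.isEmbedding hia,
    GrothLib.Dim.IsEmbedding.topologicalKrullDim_eq ib.isEmbedding hib, ha _ hA', hb _ hB', Nat.cast_add]

end GrothLib.Kleiman27
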