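import Groth.Agent.Lib.Kleiman27.Orbit
import Groth.Agent.Lib.Dim.QuasiFinite
import Groth.Agent.S19416

/-!
# General translates when there are finitely many orbits
-/

universe u

open CategoryTheory CategoryTheory.Limits MonoidalCategory CartesianMonoidalCategory MonObj GrpObj
open AlgebraicGeometry TopologicalSpace Topology
open GrothLib.Orbit27 (ratPt ratPt_apply ratPt_ext)

namespace GrothLib.Kleiman27

variable {k : Type u} [Field k] [IsAlgClosed k] {G X : Over (Spec (CommRingCat.of k))} [GrpObj G]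
  [IsIntegral G.left] [LocallyOfFiniteType G.hom] [QuasiCompact G.hom]
  [LocallyOfFiniteType X.hom] [QuasiCompact X.hom] (a : AlgGrp.Action G X)

/-- The orbit of a rational point. -/
abbrev orb (ξ : 𝟙_ (Over (Spec (CommRingCat.of k))) ⟶ X) : Set X.left :=
  Set.range (a.orbitMap ξ).left.base

theorem exists_eq_closure_inter {T : Type*} [TopologicalSpace T] {S : Set T} (h : IsLocallyClosed S) :
    ∃ U : Set T, IsOpen U ∧ S = closure S ∩ U := by
  obtain ⟨U, Z, hU, hZ, rfl⟩ := h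
  exact ⟨U, hU, Set.Subset.antisymm (fun x hx => ⟨subset_closure hx, hx.1⟩)
    fun x hx => ⟨hx.2, hZ.closure_subset_iff.2 Set.inter_subset_right hx.1⟩⟩

theorem isIrreducible_orb (ξ : 𝟙_ (Over (Spec (CommRingCat.of k))) ⟶ X) : IsIrreducible (orb a ξ) := by
  rw [orb, ← Set.image_univ]
  exact (IrreducibleSpace.isIrreducible_univ G.left).image _ (a.orbitMap ξ).left.continuous.continuousOn

theorem dim_closure_orb (ξ : 𝟙_ (Over (Spec (CommRingCat.of k))) ⟶ X) :
    topologicalKrullDim ↥(closure (orb a ξ)) = topologicalKrullDim ↥(orb a ξ) := by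
  obtain ⟨U, hU, hS⟩ := exists_eq_closure_inter (Groth.Agent.S7984.result k G X a ξ)
  have h := dim_inter X.hom isClosed_closure (isIrreducible_orb a ξ).closure ⟨U, hU⟩
    (hS.symm ▸ (isIrreducible_orb a ξ).nonempty)
  rw [← h]
  exact congrArg (fun s : Set X.left => topologicalKrullDim ↥s) hS.symm

/-- A set stable under translations which contains one closed point of an orbit contains the orbit
in its closure. -/
theorem orb_subset {A : Set X.left} (hA : IsClosed A)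
    (hst : ∀ g, (tr a g).left.base ⁻¹' A = A) (ξ : 𝟙_ (Over (Spec (CommRingCat.of k))) ⟶ X) {x : X.left}
    (hx : x ∈ A) (hxS : x ∈ orb a ξ) : orb a ξ ⊆ A := by
  haveI : JacobsonSpace X.left := LocallyOfFiniteType.jacobsonSpace X.hom
  haveI : JacobsonSpace G.left := LocallyOfFiniteType.jacobsonSpace G.hom
  obtain ⟨y, ⟨hy1, hy2⟩, hyc⟩ := nonempty_inter_closedPoints (Z := A ∩ orb a ξ) ⟨x, hx, hxS⟩
    (hA.isLocallyClosed.inter (Groth.Agent.S7984.result k G X a ξ))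
  obtain ⟨g, hg, hgc⟩ := nonempty_inter_closedPoints (Z := (a.orbitMap ξ).left.base ⁻¹' {y}) hy2
    (IsClosed.preimage (a.orbitMap ξ).left.continuous hyc).isLocallyClosed
  have hall : (a.orbitMap ξ).left.base ⁻¹' A = Set.univ := by
    refine Set.univ_subset_iff.1 (GrothLib.Orbit27.subset_of_closedPoints isClosed_univ
      (hA.preimage (a.orbitMap ξ).left.continuous) fun h _ => ?_)
    let γ₀ := h * (ratPt g hgc)⁻¹
    have e : ratPt g hgc ≫ a.orbitMap ξ ≫ tr a γ₀ = h ≫ a.orbitMap ξ := by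
      rw [← ltr_orbitMap, ← Category.assoc]
      congr 1
      rw [ltr, MonObj.comp_mul, Category.comp_id, ← Category.assoc, toUnit_unique (_ ≫ toUnit G) (𝟙 _),
        Category.id_comp, inv_mul_cancel_right]
    show (h ≫ a.orbitMap ξ).left.base (IsLocalRing.closedPoint k) ∈ A
    rw [← e, GrothLib.Orbit27.comp_apply, ratPt_apply, Over.comp_left, Scheme.Hom.comp_apply,
      show (a.orbitMap ξ).left g = y from hg]
    exact (hst γ₀).ge hy1
  rintro _ ⟨w, rfl⟩
  exact hall.ge (Set.mem_univ w)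

variable (hfin : Set.Finite {S : Set ↥X.left | ∃ ξ : 𝟙_ (Over (Spec (CommRingCat.of k))) ⟶ X, S = orb a ξ})

include hfin in
/-- Every point lies in an orbit. -/
theorem exists_mem_orb (p : X.left) : ∃ ξ, p ∈ orb a ξ := by
  haveI : JacobsonSpace X.left := LocallyOfFiniteType.jacobsonSpace X.hom
  let F : Finset (Set X.left) := hfin.toFinset.image fun S => closure (S ∩ closure {p})
  have hcov : closure ({p} : Set X.left) ⊆ ⋃₀ ↑F := by
    refine GrothLib.Orbit27.subset_of_closedPoints isClosed_closure ?_ fun x hx => ?_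
    · rw [Set.sUnion_eq_biUnion]
      refine (F.finite_toSet).isClosed_biUnion fun S hS => ?_
      obtain ⟨S', -, rfl⟩ := Finset.mem_image.1 hS
      exact isClosed_closure
    · refine ⟨closure (orb a x ∩ closure {p}), Finset.mem_image.2 ⟨_, hfin.mem_toFinset.2 ⟨x, rfl⟩, rfl⟩,
        subset_closure ⟨⟨(1 : 𝟙_ (Over (Spec (CommRingCat.of k))) ⟶ G).left.base (IsLocalRing.closedPoint k), ?_⟩, hx⟩⟩
      rw [← GrothLib.Orbit27.comp_apply, GrothLib.FlatFactor.comp_orbitMap, GrothLib.DiagGrp.act_one,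
        toUnit_unique (toUnit _) (𝟙 _), Category.id_comp]
  obtain ⟨_, hT, hpT⟩ := isIrreducible_iff_sUnion_isClosed.1 isIrreducible_singleton.closure F
    (fun S hS => by obtain ⟨S', -, rfl⟩ := Finset.mem_image.1 hS; exact isClosed_closure) hcov
  obtain ⟨S, hS, rfl⟩ := Finset.mem_image.1 hT
  obtain ⟨ξ, rfl⟩ := hfin.mem_toFinset.1 hS
  refine ⟨ξ, ?_⟩
  obtain ⟨U, hU, hS'⟩ := exists_eq_closure_inter (Groth.Agent.S7984.result k G X a ξ)
  have hp := hpT (subset_closure rfl)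
  obtain ⟨y, hy, hyp⟩ : (orb a ξ ∩ closure {p}).Nonempty := closure_nonempty_iff.1 ⟨p, hp⟩
  exact hS'.ge ⟨closure_mono Set.inter_subset_left hp,
    (specializes_iff_mem_closure.2 hyp).mem_open hU (hS'.le hy).2⟩

variable [IsSeparated G.hom]

include hfin in
/-- The pieces of a general translate in the orbits. -/
theorem exists_open_pieces (Y₁ Y₂ : Set ↥X.left) (h₁c : IsClosed Y₁) (h₂c : IsClosed Y₂) (n r s : ℕ)
    (hproper : ∀ (ξ : 𝟙_ (Over (Spec (CommRingCat.of k))) ⟶ X) (d : ℕ), topologicalKrullDim ↥(closure (orb a ξ)) = d →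
      (∀ C ∈ irreducibleComponents ↥(Y₁ ∩ closure (orb a ξ)),
          n ≤ r + d ∧ topologicalKrullDim ↥C = ((r + d - n : ℕ) : WithBot ℕ∞)) ∧
      (∀ C ∈ irreducibleComponents ↥(Y₂ ∩ closure (orb a ξ)),
          n ≤ s + d ∧ topologicalKrullDim ↥C = ((s + d - n : ℕ) : WithBot ℕ∞))) :
    ∃ V : G.left.Opens, genericPoint G.left ∈ V ∧
      ∀ σ : 𝟙_ (Over (Spec (CommRingCat.of k))) ⟶ G, Set.range σ.left.base ⊆ (V : Set G.left) →
        ∀ (ξ : 𝟙_ (Over (Spec (CommRingCat.of k))) ⟶ X) (d : ℕ), topologicalKrullDim ↥(closure (orb a ξ)) = d →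
          ∀ C, IsComp ((tr a σ).left.base '' Y₁ ∩ Y₂ ∩ orb a ξ) C →
            2 * n ≤ r + s + d ∧ topologicalKrullDim ↥C = ((r + s + d - 2 * n : ℕ) : WithBot ℕ∞) := by
  have hdim : ∀ ξ, ∃ d : ℕ, topologicalKrullDim ↥(closure (orb a ξ)) = d := fun ξ =>
    exists_nat X.hom isClosed_closure (isIrreducible_orb a ξ).closure
  choose dd hdd using hdim
  choose rep hrep using fun S : hfin.toFinset => hfin.mem_toFinset.1 S.2
  have hpiece : ∀ (Y : Set X.left) (t : ℕ), IsClosed Y →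
      (∀ (ξ : 𝟙_ (Over (Spec (CommRingCat.of k))) ⟶ X) (d : ℕ), topologicalKrullDim ↥(closure (orb a ξ)) = d →
        ∀ C ∈ irreducibleComponents ↥(Y ∩ closure (orb a ξ)),
          n ≤ t + d ∧ topologicalKrullDim ↥C = ((t + d - n : ℕ) : WithBot ℕ∞)) →
      ∀ ξ, ∀ C, IsComp (Y ∩ orb a ξ) C →
        n ≤ t + dd ξ ∧ topologicalKrullDim ↥C = ((t + dd ξ - n : ℕ) : WithBot ℕ∞) := by
    intro Y t hY hp ξ C hC
    obtain ⟨U, hU, hS⟩ := exists_eq_closure_inter (Groth.Agent.S7984.result k G X a ξ)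
    obtain ⟨h1, h2⟩ := hC.closure_inter hY hU hS
    obtain ⟨h3, h4⟩ := hp ξ _ (hdd ξ) _ h1.mem
    refine ⟨h3, ?_⟩
    rw [h1.dim_mem] at h4
    rw [← h4]
    conv_lhs => rw [h2]
    exact dim_inter X.hom isClosed_closure hC.1.1.closure ⟨U, hU⟩ (h2 ▸ hC.1.1.nonempty)
  choose V hV hV' using fun S : hfin.toFinset => exists_open_translate_inter a (rep S) h₁c h₂c
    (r₁ := r + dd (rep S) - n) (r₂ := s + dd (rep S) - n)
    ((dim_closure_orb a (rep S)).symm.trans (hdd (rep S)))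
    (fun C hC => (hpiece Y₁ r h₁c (fun ξ d h => (hproper ξ d h).1) _ C hC).2)
    (fun C hC => (hpiece Y₂ s h₂c (fun ξ d h => (hproper ξ d h).2) _ C hC).2)
  refine ⟨⟨⋂ S, (V S : Set G.left), isOpen_iInter_of_finite fun S => (V S).2⟩, Set.mem_iInter.2 hV,
    fun σ hσ ξ d hd C hC => ?_⟩
  let S : hfin.toFinset := ⟨orb a ξ, hfin.mem_toFinset.2 ⟨ξ, rfl⟩⟩
  have hS : orb a ξ = orb a (rep S) := hrep S
  rw [hS] at hd hC
  have hdS : dd (rep S) = d := by exact_mod_cast (hdd (rep S)).symm.trans hd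
  obtain ⟨c, hc⟩ := hC.1.1.nonempty
  have hc' := hC.1.2 hc
  obtain ⟨⟨y, hy, hyc⟩, hc2⟩ := hc'.1
  have hy' : y ∈ Y₁ ∩ orb a (rep S) := ⟨hy, (tr_preimage_range a σ (rep S)).le (show (tr a σ).left y ∈ _ from hyc ▸ hc'.2)⟩
  obtain ⟨C₁, hC₁, -⟩ := exists_isComp (A := Y₁ ∩ orb a (rep S)) (s := {y}) isIrreducible_singleton (Set.singleton_subset_iff.2 hy')
  obtain ⟨C₂, hC₂, -⟩ := exists_isComp (A := Y₂ ∩ orb a (rep S)) (s := {c}) isIrreducible_singleton
    (Set.singleton_subset_iff.2 ⟨hc2, hc'.2⟩)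
  obtain ⟨ha, -⟩ := hpiece Y₁ r h₁c (fun ξ d h => (hproper ξ d h).1) _ C₁ hC₁
  obtain ⟨hb, -⟩ := hpiece Y₂ s h₂c (fun ξ d h => (hproper ξ d h).2) _ C₂ hC₂
  obtain ⟨h1, h2⟩ := hV' S σ (hσ.trans (Set.iInter_subset _ S)) C hC
  refine ⟨by omega, ?_⟩
  rw [h2]
  congr 1
  omega

end GrothLib.Kleiman27
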